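import Mathlib

/-!
# S4884, PSI, the characteristic two identity (helper381)

`∑_{i+j=k} S_i Q_j = k Q_k`, `Q_0 = 1`, in characteristic two: `S_{2m} = S_m ^ 2`, so `S_{2^a} = Q_1 ^ (2^a)`.
-/

set_option autoImplicit false

namespace Cfsg.Agent.H381.CC

open Finset

variable {R : Type*} [CommRing R] [CharP R 2]

/-- a symmetric sum over the antidiagonal in characteristic two -/
theorem sum_antidiagonal_symm (g : ℕ → ℕ → R) (m : ℕ) (hg : ∀ i j, i + j = 2 * m → g i j = g j i) :
    ∑ x ∈ antidiagonal (2 * m), g x.1 x.2 = g m m := by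
  classical
  have hmem : (m, m) ∈ antidiagonal (2 * m) := by rw [HasAntidiagonal.mem_antidiagonal]; ring
  rw [← add_sum_erase _ _ hmem]
  have h1 : ∑ x ∈ (antidiagonal (2 * m)).erase (m, m), g x.1 x.2 = 0 := by
    refine sum_involution (fun x _ => x.swap) ?_ ?_ ?_ ?_
    · intro x hx
      rw [mem_erase, HasAntidiagonal.mem_antidiagonal] at hx
      show g x.1 x.2 + g x.2 x.1 = 0
      rw [← hg x.1 x.2 hx.2]
      exact CharTwo.add_self_eq_zero _
    · intro x hx _ h
      rw [mem_erase, HasAntidiagonal.mem_antidiagonal] at hx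
      apply hx.1
      have h2 : x.1 = x.2 := congrArg Prod.snd h
      have h3 : x.1 = m := by omega
      exact Prod.ext h3 (h2 ▸ h3)
    · intro x hx
      rw [mem_erase, HasAntidiagonal.mem_antidiagonal] at hx ⊢
      refine ⟨?_, by rw [Prod.fst_swap, Prod.snd_swap, add_comm]; exact hx.2⟩
      intro h
      apply hx.1
      rw [← Prod.swap_swap x, h]
      rfl
    · intro x _
      exact Prod.swap_swap x
  rw [h1, add_zero]

/-- the same for an odd sum -/
theorem sum_antidiagonal_symm' (g : ℕ → ℕ → R) (m : ℕ) (hg : ∀ i j, i + j = 2 * m + 1 → g i j = g j i) :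
    ∑ x ∈ antidiagonal (2 * m + 1), g x.1 x.2 = 0 := by
  classical
  refine sum_involution (fun x _ => x.swap) ?_ ?_ ?_ ?_
  · intro x hx
    rw [HasAntidiagonal.mem_antidiagonal] at hx
    show g x.1 x.2 + g x.2 x.1 = 0
    rw [← hg x.1 x.2 hx]
    exact CharTwo.add_self_eq_zero _
  · intro x hx _ h
    rw [HasAntidiagonal.mem_antidiagonal] at hx
    have h2 : x.1 = x.2 := congrArg Prod.snd h
    omega
  · intro x hx
    rw [HasAntidiagonal.mem_antidiagonal] at hx ⊢
    rw [Prod.fst_swap, Prod.snd_swap, add_comm]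
    exact hx
  · intro x _
    exact Prod.swap_swap x

theorem natCast_eq_of_even {i j : ℕ} (h : Even (i + j)) : (i : R) = j := by
  have h1 : ((i + j : ℕ) : R) = 0 := (CharP.cast_eq_zero_iff R 2 _).2 (even_iff_two_dvd.1 h)
  push_cast at h1
  rw [add_eq_zero_iff_eq_neg, CharTwo.neg_eq] at h1
  exact h1

theorem natCast_sq (m : ℕ) : (m : R) ^ 2 = m := by
  have h1 : ((m ^ 2 : ℕ) : R) = (m : R) := by
    apply natCast_eq_of_even
    rw [pow_two, ← Nat.mul_succ]
    exact Nat.even_mul_succ_self m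
  push_cast at h1
  exact h1

/-- **`S_{2m} = S_m ^ 2`** -/
theorem double {S Q : ℕ → R} (hQ : Q 0 = 1) (h : ∀ k, ∑ x ∈ antidiagonal k, S x.1 * Q x.2 = k * Q k) (m : ℕ) :
    S (2 * m) = S m ^ 2 := by
  -- `Q ^ 2`
  have hsq : ∀ n, ∑ x ∈ antidiagonal (2 * n), Q x.1 * Q x.2 = Q n ^ 2 := fun n => by
    rw [sum_antidiagonal_symm (fun i j => Q i * Q j) n (fun i j _ => mul_comm _ _), pow_two]
  have hsq' : ∀ n, ∑ x ∈ antidiagonal (2 * n + 1), Q x.1 * Q x.2 = 0 := fun n =>
    sum_antidiagonal_symm' (fun i j => Q i * Q j) n (fun i j _ => mul_comm _ _)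
  let PS : PowerSeries R := PowerSeries.mk S
  let PQ : PowerSeries R := PowerSeries.mk Q
  have hPQ2 : ∀ n, PowerSeries.coeff (2 * n) (PQ * PQ) = Q n ^ 2 := fun n => by
    rw [PowerSeries.coeff_mul, ← hsq]
    simp [PQ]
  have hPQ2' : ∀ n, PowerSeries.coeff (2 * n + 1) (PQ * PQ) = 0 := fun n => by
    rw [PowerSeries.coeff_mul, ← hsq' n]
    simp [PQ]
  have hD : ∀ k, PowerSeries.coeff k (PS * PQ) = k * Q k := fun k => by
    rw [PowerSeries.coeff_mul, ← h k]
    simp [PS, PQ]
  -- the even part of `S Q ^ 2`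
  have key : ∀ n, ∑ x ∈ antidiagonal n, S (2 * x.1) * Q x.2 ^ 2 = (n * Q n) ^ 2 := by
    intro n
    have h1 : PowerSeries.coeff (2 * n) (PS * PQ * PQ) = (n * Q n) ^ 2 := by
      rw [PowerSeries.coeff_mul]
      simp only [hD]
      have h2 : ∀ x ∈ antidiagonal (2 * n), (x.1 : R) * Q x.1 * (PowerSeries.coeff x.2 PQ) = x.1 * (Q x.1 * Q x.2) := by
        intro x _
        simp [PQ, mul_assoc]
      rw [sum_congr rfl h2]
      rw [sum_antidiagonal_symm (fun i j => (i : R) * (Q i * Q j)) n ?_]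
      · rw [mul_pow, natCast_sq, pow_two]
      · intro i j hij
        rw [natCast_eq_of_even (i := i) (j := j) ⟨n, by omega⟩, mul_comm (Q i)]
    rw [← h1, mul_assoc, PowerSeries.coeff_mul]
    -- the odd terms vanish
    have h3 : ∑ x ∈ antidiagonal (2 * n), PowerSeries.coeff x.1 PS * PowerSeries.coeff x.2 (PQ * PQ) =
        ∑ x ∈ (antidiagonal n).image (fun x => (2 * x.1, 2 * x.2)),
          PowerSeries.coeff x.1 PS * PowerSeries.coeff x.2 (PQ * PQ) := by
      symm
      apply sum_subset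
      · intro x hx
        rw [mem_image] at hx
        obtain ⟨y, hy, rfl⟩ := hx
        rw [HasAntidiagonal.mem_antidiagonal] at hy ⊢
        show 2 * y.1 + 2 * y.2 = 2 * n
        omega
      · intro x hx hx'
        rw [HasAntidiagonal.mem_antidiagonal] at hx
        rcases Nat.even_or_odd' x.2 with ⟨c, hc | hc⟩
        · exfalso
          apply hx'
          rw [mem_image]
          refine ⟨(x.1 / 2, c), ?_, ?_⟩
          · rw [HasAntidiagonal.mem_antidiagonal]
            show x.1 / 2 + c = n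
            omega
          · apply Prod.ext
            · show 2 * (x.1 / 2) = x.1
              omega
            · exact hc.symm
        · rw [hc, hPQ2', mul_zero]
    rw [h3, sum_image]
    · refine sum_congr rfl fun x _ => ?_
      show S (2 * x.1) * Q x.2 ^ 2 = PowerSeries.coeff (2 * x.1) PS * PowerSeries.coeff (2 * x.2) (PQ * PQ)
      rw [hPQ2]
      simp [PS]
    · intro x _ y _ hxy
      have h4 : 2 * x.1 = 2 * y.1 := congrArg Prod.fst hxy
      have h5 : 2 * x.2 = 2 * y.2 := congrArg Prod.snd hxy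
      exact Prod.ext (by omega) (by omega)
  -- the Frobenius image
  have key2 : ∀ n, ∑ x ∈ antidiagonal n, S x.1 ^ 2 * Q x.2 ^ 2 = (n * Q n) ^ 2 := by
    intro n
    rw [← h n, sum_pow_char 2]
    exact sum_congr rfl fun x _ => by rw [mul_pow]
  induction m using Nat.strong_induction_on with
  | _ m ih =>
  have h1 := (key m).trans (key2 m).symm
  have hmem : (m, 0) ∈ antidiagonal m := by rw [HasAntidiagonal.mem_antidiagonal]; ring
  rw [← add_sum_erase _ _ hmem, ← add_sum_erase (antidiagonal m) (fun x => S x.1 ^ 2 * Q x.2 ^ 2) hmem] at h1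
  have h2 : ∑ x ∈ (antidiagonal m).erase (m, 0), S (2 * x.1) * Q x.2 ^ 2 =
      ∑ x ∈ (antidiagonal m).erase (m, 0), S x.1 ^ 2 * Q x.2 ^ 2 := by
    refine sum_congr rfl fun x hx => ?_
    rw [mem_erase, HasAntidiagonal.mem_antidiagonal] at hx
    rw [ih x.1 ?_]
    by_contra hcon
    apply hx.1
    have h3 : x.1 = m := by omega
    have h4 : x.2 = 0 := by omega
    exact Prod.ext h3 h4
  rw [h2] at h1
  have h3 := add_right_cancel h1
  simpa [hQ] using h3

/-- **`S_{2^a} = Q_1 ^ (2^a)`** -/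
theorem two_pow {S Q : ℕ → R} (hQ : Q 0 = 1) (hS : S 0 = 0) (h : ∀ k, ∑ x ∈ antidiagonal k, S x.1 * Q x.2 = k * Q k) (a : ℕ) :
    S (2 ^ a) = Q 1 ^ 2 ^ a := by
  induction a with
  | zero =>
    have h1 := h 1
    rw [Nat.antidiagonal_succ] at h1
    simp [hQ, hS] at h1
    simpa using h1
  | succ a ih =>
    rw [pow_succ, mul_comm, double hQ h, ih, ← pow_mul, mul_comm 2]

end Cfsg.Agent.H381.CC
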