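import Cfsg.Agent.H381.CC.CharTwo

/-!
# S4884, PSI, compositions as sets of partial sums (helper381)

* `gap K y` : `y` minus the largest element of `K` below `y`; `pts K` the multiset of all gaps;
* `class_sum` : for `k = 2 ^ a` the sum of `min K` over the `K ⊆ [1, k]` with `k ∈ K` and `pts K = t` is odd exactly for
  `t = {1, ..., 1}`.
-/

set_option autoImplicit false

namespace Cfsg.Agent.H381.CC

open Finset

/-- the part of the composition `K` ending at `y` -/
def gap (K : Finset ℕ) (y : ℕ) : ℕ := y - (K.filter (· < y)).sup id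

/-- the multiset of parts -/
def pts (K : Finset ℕ) : Multiset ℕ := K.val.map (gap K)

/-- the minimum (`0` for the empty set) -/
def mn (K : Finset ℕ) : ℕ := if h : K.Nonempty then K.min' h else 0

/-- compositions of `k` -/
def cmp (k : ℕ) : Finset (Finset ℕ) := (Icc 1 k).powerset.filter (k ∈ ·)

theorem mem_cmp {k : ℕ} {K : Finset ℕ} : K ∈ cmp k ↔ K ⊆ Icc 1 k ∧ k ∈ K := by
  rw [cmp, mem_filter, mem_powerset]

theorem sup_mem_cmp {K : Finset ℕ} {k : ℕ} (hK : K ∈ cmp k) : K.sup id = k := by
  rw [mem_cmp] at hK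
  apply le_antisymm
  · exact Finset.sup_le fun y hy => (mem_Icc.1 (hK.1 hy)).2
  · exact le_sup (f := id) hK.2

/-- all gaps are one -/
theorem gap_Icc {k y : ℕ} (hy : y ∈ Icc 1 k) : gap (Icc 1 k) y = 1 := by
  rw [mem_Icc] at hy
  have h : ((Icc 1 k).filter (· < y)).sup id = y - 1 := by
    apply le_antisymm
    · refine Finset.sup_le fun z hz => ?_
      rw [mem_filter] at hz
      show z ≤ y - 1
      omega
    · rcases Nat.lt_or_ge 1 y with h1 | h1
      · exact le_sup (f := id) (mem_filter.2 ⟨mem_Icc.2 ⟨by omega, by omega⟩, by omega⟩)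
      · have : y - 1 = 0 := by omega
        rw [this]
        exact Nat.zero_le _
  rw [gap, h]
  omega

theorem pts_Icc (k : ℕ) : pts (Icc 1 k) = Multiset.replicate k 1 := by
  rw [Multiset.eq_replicate]
  constructor
  · rw [pts, Multiset.card_map, card_val, Nat.card_Icc]
    omega
  · intro b hb
    rw [pts, Multiset.mem_map] at hb
    obtain ⟨y, hy, rfl⟩ := hb
    exact gap_Icc hy

section sums

variable {R : Type*} [CommRing R]

/-- the generating sum -/
def SS (x : ℕ → R) (k : ℕ) : R := ∑ K ∈ cmp k, (mn K : R) * ∏ y ∈ K, x (gap K y)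

theorem SS_zero (x : ℕ → R) : SS x 0 = 0 := by
  rw [SS]
  apply sum_eq_zero
  intro K hK
  rw [mem_cmp] at hK
  have := mem_Icc.1 (hK.1 hK.2)
  omega

theorem SS_rec (x : ℕ → R) {k : ℕ} (hk : 1 ≤ k) :
    SS x k = k * x k + ∑ j ∈ Icc 1 (k - 1), SS x j * x (k - j) := by
  classical
  have hkn : ∀ K ∈ (Icc 1 (k - 1)).powerset, k ∉ K := by
    intro K hK h
    rw [mem_powerset] at hK
    have := mem_Icc.1 (hK h)
    omega
  -- remove `k`
  have h1 : SS x k = ∑ K ∈ (Icc 1 (k - 1)).powerset, (mn (insert k K) : R) * ∏ y ∈ insert k K, x (gap (insert k K) y) := by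
    rw [SS]
    refine sum_bij' (fun K _ => K.erase k) (fun K _ => insert k K) ?_ ?_ ?_ ?_ ?_
    · intro K hK
      rw [mem_cmp] at hK
      rw [mem_powerset]
      intro y hy
      rw [mem_erase] at hy
      have := mem_Icc.1 (hK.1 hy.2)
      rw [mem_Icc]
      have := hy.1
      omega
    · intro K hK
      rw [mem_powerset] at hK
      rw [mem_cmp]
      refine ⟨?_, mem_insert_self _ _⟩
      intro y hy
      rcases mem_insert.1 hy with rfl | hy
      · rw [mem_Icc]; omega
      · have := mem_Icc.1 (hK hy)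
        rw [mem_Icc]; omega
    · intro K hK
      exact insert_erase (mem_cmp.1 hK).2
    · intro K hK
      exact erase_insert (hkn K hK)
    · intro K hK
      rw [insert_erase (mem_cmp.1 hK).2]
  rw [h1]
  have hempty : (∅ : Finset ℕ) ∈ (Icc 1 (k - 1)).powerset := mem_powerset.2 (empty_subset _)
  rw [← add_sum_erase _ _ hempty]
  have h2 : (mn (insert k ∅) : R) * ∏ y ∈ insert k (∅ : Finset ℕ), x (gap (insert k ∅) y) = k * x k := by
    have e1 : insert k (∅ : Finset ℕ) = {k} := rfl
    rw [e1, prod_singleton]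
    have e2 : mn {k} = k := by
      rw [mn, dif_pos (singleton_nonempty k), min'_singleton]
    have e3 : gap {k} k = k := by
      have : ({k} : Finset ℕ).filter (· < k) = ∅ := by
        rw [filter_singleton, if_neg (lt_irrefl k)]
      rw [gap, this, sup_empty]
      exact Nat.sub_zero _
    rw [e2, e3]
  rw [h2]
  congr 1
  -- the fibres of the maximum
  have h3 : ∀ K ∈ (Icc 1 (k - 1)).powerset.erase ∅, K.sup id ∈ Icc 1 (k - 1) := by
    intro K hK
    rw [mem_erase, mem_powerset] at hK
    obtain ⟨y, hy⟩ := nonempty_iff_ne_empty.2 hK.1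
    have h4 : y ≤ K.sup id := le_sup (f := id) hy
    have h5 : K.sup id ≤ k - 1 := Finset.sup_le fun z hz => (mem_Icc.1 (hK.2 hz)).2
    have h6 := (mem_Icc.1 (hK.2 hy)).1
    rw [mem_Icc]
    omega
  rw [← sum_fiberwise_of_maps_to h3]
  refine sum_congr rfl fun j hj => ?_
  rw [mem_Icc] at hj
  rw [SS, sum_mul]
  have h4 : ((Icc 1 (k - 1)).powerset.erase ∅).filter (fun K => K.sup id = j) = cmp j := by
    ext K
    rw [mem_filter, mem_erase, mem_powerset, mem_cmp]
    constructor
    · rintro ⟨⟨hne, hK⟩, hs⟩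
      have hmem : K.sup id ∈ K := by
        obtain ⟨y, hy, hys⟩ := exists_mem_eq_sup K (nonempty_iff_ne_empty.2 hne) id
        rw [hys]; exact hy
      rw [hs] at hmem
      refine ⟨fun y hy => ?_, hmem⟩
      have h5 : y ≤ K.sup id := le_sup (f := id) hy
      rw [hs] at h5
      exact mem_Icc.2 ⟨(mem_Icc.1 (hK hy)).1, h5⟩
    · rintro ⟨hK, hjK⟩
      refine ⟨⟨?_, ?_⟩, ?_⟩
      · rintro rfl
        exact absurd hjK (notMem_empty _)
      · intro y hy
        have := mem_Icc.1 (hK hy)
        rw [mem_Icc]; omega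
      · exact sup_mem_cmp (mem_cmp.2 ⟨hK, hjK⟩)
  rw [h4]
  refine sum_congr rfl fun K hK => ?_
  have hKs := sup_mem_cmp hK
  rw [mem_cmp] at hK
  have hkK : k ∉ K := by
    intro h
    have := mem_Icc.1 (hK.1 h)
    omega
  have hlt : ∀ y ∈ K, y < k := fun y hy => by
    have := mem_Icc.1 (hK.1 hy)
    omega
  have hne : K.Nonempty := ⟨j, hK.2⟩
  rw [prod_insert hkK]
  have e1 : mn (insert k K) = mn K := by
    rw [mn, mn, dif_pos (insert_nonempty _ _), dif_pos hne, min'_insert]
    exact min_eq_right (hlt _ (min'_mem K hne)).le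
  have e2 : gap (insert k K) k = k - j := by
    have : (insert k K).filter (· < k) = K := by
      ext y
      rw [mem_filter, mem_insert]
      constructor
      · rintro ⟨rfl | h, h2⟩
        · exact absurd h2 (lt_irrefl _)
        · exact h
      · intro h
        exact ⟨Or.inr h, hlt y h⟩
    rw [gap, this, hKs]
  have e3 : ∀ y ∈ K, gap (insert k K) y = gap K y := by
    intro y hy
    have : (insert k K).filter (· < y) = K.filter (· < y) := by
      rw [filter_insert, if_neg (not_lt.2 (hlt y hy).le)]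
    rw [gap, gap, this]
  rw [e1, e2, prod_congr rfl fun y hy => by rw [e3 y hy]]
  ring

/-- **`SS x (2 ^ a) = x 1 ^ (2 ^ a)`** in characteristic two -/
theorem SS_two_pow [CharP R 2] (x : ℕ → R) (a : ℕ) : SS x (2 ^ a) = x 1 ^ 2 ^ a := by
  let Q : ℕ → R := fun i => if i = 0 then 1 else x i
  have hQ : ∀ i, i ≠ 0 → Q i = x i := fun i hi => if_neg hi
  have h : ∀ k, ∑ y ∈ antidiagonal k, SS x y.1 * Q y.2 = k * Q k := by
    intro k
    rcases Nat.eq_zero_or_pos k with rfl | hk
    · rw [Nat.antidiagonal_zero, sum_singleton, SS_zero]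
      simp
    · rw [Nat.sum_antidiagonal_eq_sum_range_succ (fun i j => SS x i * Q j) k, sum_range_succ, Nat.sub_self]
      have h1 : ∑ j ∈ range k, SS x j * Q (k - j) = ∑ j ∈ Icc 1 (k - 1), SS x j * x (k - j) := by
        have h2 : range k = insert 0 (Icc 1 (k - 1)) := by
          ext y
          rw [mem_insert, mem_Icc, mem_range]
          omega
        rw [h2, sum_insert (by rw [mem_Icc]; omega), SS_zero, zero_mul, zero_add]
        refine sum_congr rfl fun j hj => ?_
        rw [mem_Icc] at hj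
        rw [hQ _ (by omega)]
      have h3 : Q 0 = 1 := if_pos rfl
      rw [h1, h3, mul_one, SS_rec x hk, hQ k hk.ne']
      have h4 := CharTwo.add_self_eq_zero (∑ j ∈ Icc 1 (k - 1), SS x j * x (k - j))
      linear_combination h4
  have h1 := two_pow (S := SS x) (Q := Q) (if_pos rfl) (SS_zero x) h a
  rw [h1, hQ 1 one_ne_zero]

end sums

/-- **the class sums** -/
theorem class_sum (a : ℕ) (t : Multiset ℕ) :
    (∑ K ∈ (cmp (2 ^ a)).filter (fun K => pts K = t), (mn K : ZMod 2)) =
      if t = Multiset.replicate (2 ^ a) 1 then 1 else 0 := by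
  classical
  have hinj : Function.Injective (algebraMap (ZMod 2) (AddMonoidAlgebra (ZMod 2) (Multiset ℕ))) :=
    (algebraMap (ZMod 2) (AddMonoidAlgebra (ZMod 2) (Multiset ℕ))).injective
  have hch : CharP (AddMonoidAlgebra (ZMod 2) (Multiset ℕ)) 2 := charP_of_injective_algebraMap hinj 2
  have h := SS_two_pow (R := AddMonoidAlgebra (ZMod 2) (Multiset ℕ)) (fun i => AddMonoidAlgebra.single {i} 1) a
  have h1 : ∀ K : Finset ℕ, (mn K : AddMonoidAlgebra (ZMod 2) (Multiset ℕ)) *
      ∏ y ∈ K, AddMonoidAlgebra.single ({gap K y} : Multiset ℕ) (1 : ZMod 2) =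
        AddMonoidAlgebra.single (pts K) (mn K : ZMod 2) := by
    intro K
    have h2 : ∀ L : Finset ℕ, ∏ y ∈ L, AddMonoidAlgebra.single ({gap K y} : Multiset ℕ) (1 : ZMod 2) =
        AddMonoidAlgebra.single (L.val.map (gap K)) (1 : ZMod 2) := by
      intro L
      induction L using Finset.induction_on with
      | empty => rfl
      | insert y L hy ih =>
        rw [prod_insert hy, ih, AddMonoidAlgebra.single_mul_single, one_mul, insert_val_of_notMem hy, Multiset.map_cons,
          Multiset.singleton_add]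
    rw [h2 K, AddMonoidAlgebra.natCast_def, AddMonoidAlgebra.single_mul_single, zero_add, mul_one]
    rfl
  rw [SS, sum_congr rfl fun K _ => h1 K] at h
  rw [AddMonoidAlgebra.single_pow, one_pow] at h
  have h3 := congrArg (fun f : AddMonoidAlgebra (ZMod 2) (Multiset ℕ) => f.coeff t) h
  simp only [AddMonoidAlgebra.coeff_sum, AddMonoidAlgebra.coeff_single, Finsupp.coe_finsetSum, Finset.sum_apply,
    Finsupp.single_apply] at h3
  rw [sum_filter, h3, Multiset.nsmul_singleton]
  simp only [eq_comm]

end Cfsg.Agent.H381.CC
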